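import Groth.Agent.GrpSch.SepPoints
import Groth.Agent.Hensel.SmoothLift
import Groth.Prelude.Def_SGA7IX
import Mathlib

/-!
# Sections of smooth schemes over henselian local rings and components of the special fibre
-/

set_option autoImplicit false

universe u

open CategoryTheory Limits MonoidalCategory CartesianMonoidalCategory MonObj AlgebraicGeometry

namespace Groth.Agent.NeronComp

section Top

variable {α : Type*} [TopologicalSpace α]

theorem finite_connectedComponents [TopologicalSpace.NoetherianSpace α] :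
    Finite (ConnectedComponents α) := by
  have hfin := TopologicalSpace.NoetherianSpace.finite_irreducibleComponents (α := α)
  haveI := hfin.to_subtype
  let g : irreducibleComponents α → ConnectedComponents α := fun C =>
    ConnectedComponents.mk C.2.1.1.choose
  refine Finite.of_surjective g fun q => ?_
  obtain ⟨a, rfl⟩ := ConnectedComponents.surjective_coe q
  refine ⟨⟨irreducibleComponent a, irreducibleComponent_mem_irreducibleComponents a⟩, ?_⟩
  refine ConnectedComponents.coe_eq_coe'.mpr ?_
  exact isIrreducible_irreducibleComponent.isConnected.subset_connectedComponent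
    mem_irreducibleComponent (Exists.choose_spec _)

theorem exists_open_connectedComponentIn [TopologicalSpace.NoetherianSpace α] {F : Set α}
    (hF : IsClosed F) {z : α} (hz : z ∈ F) :
    ∃ O : Set α, IsOpen O ∧ z ∈ O ∧ O ∩ F ⊆ connectedComponentIn F z := by
  haveI : Finite (ConnectedComponents F) := finite_connectedComponents
  let q : ConnectedComponents F := ConnectedComponents.mk ⟨z, hz⟩
  let W : Set F := {w | ConnectedComponents.mk w ≠ q}
  have hW : IsClosed W := by
    have h1 : W = ⋃ p ∈ ({q}ᶜ : Set (ConnectedComponents F)), ConnectedComponents.mk ⁻¹' {p} := by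
      ext w; simp [W]
    rw [h1]
    refine (Set.toFinite _).isClosed_biUnion fun p _ => ?_
    obtain ⟨w, rfl⟩ := ConnectedComponents.surjective_coe p
    rw [connectedComponents_preimage_singleton]
    exact isClosed_connectedComponent
  refine ⟨(((↑) : F → α) '' W)ᶜ, (hF.isClosedEmbedding_subtypeVal.isClosedMap _ hW).isOpen_compl,
    ?_, ?_⟩
  · rintro ⟨w, hw, hwz⟩
    exact hw (congrArg ConnectedComponents.mk (Subtype.ext hwz))
  · rintro w ⟨hw, hwF⟩
    rw [connectedComponentIn_eq_image hz]
    refine ⟨⟨w, hwF⟩, ?_, rfl⟩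
    by_contra hne
    exact hw ⟨⟨w, hwF⟩, fun he => hne (ConnectedComponents.coe_eq_coe'.mp he), rfl⟩

theorem finite_range_connectedComponentIn [TopologicalSpace.NoetherianSpace α] (F : Set α) {β : Type*}
    (x : β → α) (hx : ∀ i, x i ∈ F) : (Set.range fun i => connectedComponentIn F (x i)).Finite := by
  haveI : Finite (ConnectedComponents F) := finite_connectedComponents
  refine (Set.finite_range fun p : ConnectedComponents F =>
    ((↑) : F → α) '' (ConnectedComponents.mk ⁻¹' {p})).subset ?_
  rintro _ ⟨i, rfl⟩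
  refine ⟨ConnectedComponents.mk ⟨x i, hx i⟩, ?_⟩
  change _ = connectedComponentIn F (x i)
  rw [connectedComponentIn_eq_image (hx i)]
  simp only [connectedComponents_preimage_singleton]

end Top

variable {R : Type u} [CommRing R] [IsLocalRing R]

lemma mem_specialFibreSet {N : Over (Spec (CommRingCat.of R))}
    (x : 𝟙_ (Over (Spec (CommRingCat.of R))) ⟶ N) :
    x.left (IsLocalRing.closedPoint R) ∈ SGA7.specialFibreSet R N := by
  change (x.left ≫ N.hom) (IsLocalRing.closedPoint R) = IsLocalRing.closedPoint R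
  rw [Over.w x]
  rfl

/-- Over a henselian local ring with separably closed residue field, a smooth scheme has a section
through every open meeting the special fibre. -/
theorem exists_section_mem_open [HenselianLocalRing R] [IsSepClosed (IsLocalRing.ResidueField R)]
    (N : Over (Spec (CommRingCat.of R))) [Smooth N.hom] {O : Set N.left} (hO : IsOpen O) {z : N.left}
    (hzO : z ∈ O) (hz : z ∈ SGA7.specialFibreSet R N) :
    ∃ x : 𝟙_ (Over (Spec (CommRingCat.of R))) ⟶ N, x.left (IsLocalRing.closedPoint R) ∈ O := by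
  let k := IsLocalRing.ResidueField R
  let s : Spec (CommRingCat.of k) ⟶ Spec (CommRingCat.of R) :=
    Spec.map (CommRingCat.ofHom (IsLocalRing.residue R))
  obtain ⟨_, ⟨V, hV, rfl⟩, hzV, hVO⟩ :=
    N.left.isBasis_affineOpens.exists_subset_of_mem_open hzO hO
  replace hV : IsAffineOpen V := hV
  obtain ⟨p, hp⟩ : z ∈ Set.range (pullback.fst N.hom s) := by
    rw [Scheme.Pullback.range_fst]
    refine ⟨IsLocalRing.closedPoint k, ?_⟩
    rw [Set.mem_singleton_iff.mp hz]
    refine PrimeSpectrum.ext ?_
    change Ideal.comap (IsLocalRing.residue R) (IsLocalRing.maximalIdeal k) = IsLocalRing.maximalIdeal R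
    rw [IsLocalRing.maximalIdeal_eq_bot, ← RingHom.ker_eq_comap_bot, IsLocalRing.ker_residue]
  obtain ⟨r, hr, hrV⟩ := GrpSch.SepPoints.exists_section_mem (pullback.snd N.hom s)
    (U := (pullback.fst N.hom s) ⁻¹ᵁ V) (x := p) (show pullback.fst N.hom s p ∈ V by rw [hp]; exact hzV)
  let rN : Spec (CommRingCat.of k) ⟶ N.left := r ≫ pullback.fst N.hom s
  have hrN : rN ≫ N.hom = s := by
    rw [Category.assoc, pullback.condition, ← Category.assoc, hr, Category.id_comp]
  obtain ⟨φ, hφ⟩ : ∃ φ, Spec.map φ = hV.fromSpec ≫ N.hom := ⟨_, Spec.map_preimage _⟩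
  letI := φ.hom.toAlgebra
  have : Algebra.Smooth R Γ(N.left, V) := by
    have h1 : Smooth (Spec.map φ) := by
      rw [hφ]; infer_instance
    exact RingHom.smooth_algebraMap.mp ((HasRingHomProperty.Spec_iff (P := @Smooth) (φ := φ)).mp h1)
  have hsub : Set.range rN ⊆ Set.range hV.fromSpec := by
    rw [hV.range_fromSpec]
    rintro _ ⟨w, rfl⟩
    exact hrV w
  let l : Spec (CommRingCat.of k) ⟶ Spec Γ(N.left, V) := IsOpenImmersion.lift hV.fromSpec rN hsub
  have hl : l ≫ Spec.map φ = s := by rw [hφ, IsOpenImmersion.lift_fac_assoc, hrN]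
  have hl' : φ ≫ Spec.preimage l = CommRingCat.ofHom (IsLocalRing.residue R) := by
    apply Spec.map_injective
    rw [Spec.map_comp, Spec.map_preimage, hl]
  let σ : Γ(N.left, V) →ₐ[R] R ⧸ IsLocalRing.maximalIdeal R :=
    { toRingHom := (Spec.preimage l).hom, commutes' := fun c => ConcreteCategory.congr_hom hl' c }
  obtain ⟨τ, hτ⟩ := Hensel.exists_algHom_lift_of_smooth (A := R) (I := IsLocalRing.maximalIdeal R) σ
  let x : 𝟙_ (Over (Spec (CommRingCat.of R))) ⟶ N :=
    Over.homMk (Spec.map (CommRingCat.ofHom τ.toRingHom) ≫ hV.fromSpec) (by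
      rw [Category.assoc, ← hφ, ← Spec.map_comp]
      change Spec.map _ = 𝟙 _
      rw [← Spec.map_id]
      congr 1
      ext c
      exact τ.commutes c)
  refine ⟨x, hVO ?_⟩
  have : x.left (IsLocalRing.closedPoint R) ∈ Set.range hV.fromSpec := ⟨_, rfl⟩
  rwa [hV.range_fromSpec] at this

variable (N : Over (Spec (CommRingCat.of R))) [GrpObj N]

/-- right translation by a section -/
noncomputable def trans (a : 𝟙_ (Over (Spec (CommRingCat.of R))) ⟶ N) : N ⟶ N :=
  lift (𝟙 N) (toUnit N ≫ a) ≫ μ[N]

omit [IsLocalRing R] in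
lemma comp_trans {T : Over (Spec (CommRingCat.of R))} (x : T ⟶ N)
    (a : 𝟙_ (Over (Spec (CommRingCat.of R))) ⟶ N) : x ≫ trans N a = x * (toUnit T ≫ a) := by
  rw [trans, ← Category.assoc, comp_lift, Category.comp_id, ← Category.assoc,
    toUnit_unique (x ≫ toUnit N) (toUnit T), Hom.mul_def]

omit [IsLocalRing R] in
lemma trans_comp_trans (a b : 𝟙_ (Over (Spec (CommRingCat.of R))) ⟶ N) :
    trans N a ≫ trans N b = trans N (a * b) := by
  have h1 : trans N a = 𝟙 N * (toUnit N ≫ a) := by rw [← comp_trans, Category.id_comp]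
  have h2 : trans N (a * b) = 𝟙 N * (toUnit N ≫ (a * b)) := by rw [← comp_trans, Category.id_comp]
  rw [comp_trans N (trans N a) b, h1, h2, MonObj.comp_mul, _root_.mul_assoc]

omit [IsLocalRing R] in
lemma trans_one : trans N 1 = 𝟙 N := by
  have h1 : trans N 1 = 𝟙 N * (toUnit N ≫ 1) := by rw [← comp_trans, Category.id_comp]
  rw [h1, MonObj.comp_one, _root_.mul_one]

/-- translation as a homeomorphism -/
noncomputable def transHomeo (a : 𝟙_ (Over (Spec (CommRingCat.of R))) ⟶ N) : N.left ≃ₜ N.left :=
  TopCat.homeoOfIso ((Scheme.forgetToTop).mapIso ((Over.forget _).mapIso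
    { hom := trans N a
      inv := trans N a⁻¹
      hom_inv_id := by rw [trans_comp_trans, _root_.mul_inv_cancel, trans_one]
      inv_hom_id := by rw [trans_comp_trans, _root_.inv_mul_cancel, trans_one] }))

lemma image_specialFibreSet (a : 𝟙_ (Over (Spec (CommRingCat.of R))) ⟶ N) :
    transHomeo N a '' SGA7.specialFibreSet R N = SGA7.specialFibreSet R N := by
  have h : ∀ b z, N.hom ((trans N b).left z) = N.hom z := fun b z => by
    rw [← Scheme.Hom.comp_apply, Over.w (trans N b)]
  ext z
  constructor
  · rintro ⟨w, hw, rfl⟩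
    change N.hom ((trans N a).left w) = _
    rw [h]
    exact hw
  · intro hz
    refine ⟨(transHomeo N a).symm z, ?_, (transHomeo N a).apply_symm_apply z⟩
    change N.hom ((trans N a⁻¹).left z) = _
    rw [h]
    exact hz

lemma image_secComp (x a : 𝟙_ (Over (Spec (CommRingCat.of R))) ⟶ N) :
    transHomeo N a '' SGA7.secComp R N x = SGA7.secComp R N (x * a) := by
  unfold SGA7.secComp
  rw [Homeomorph.image_connectedComponentIn _ (mem_specialFibreSet x), image_specialFibreSet]
  congr 1
  change (x ≫ trans N a).left _ = _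
  rw [comp_trans, toUnit_unique (toUnit (𝟙_ (Over (Spec (CommRingCat.of R))))) (𝟙 _), Category.id_comp]

lemma one_apply :
    (1 : 𝟙_ (Over (Spec (CommRingCat.of R))) ⟶ N).left = η[N].left := by
  rw [Hom.one_def, toUnit_unique (toUnit (𝟙_ (Over (Spec (CommRingCat.of R))))) (𝟙 _), Category.id_comp]

theorem secComp_eq_iff (x y : 𝟙_ (Over (Spec (CommRingCat.of R))) ⟶ N) :
    SGA7.secComp R N x = SGA7.secComp R N y ↔ x * y⁻¹ ∈ SGA7.secUnitComp R N := by
  rw [← (Set.image_injective.mpr (transHomeo N y⁻¹).injective).eq_iff, image_secComp, image_secComp,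
    _root_.mul_inv_cancel]
  change connectedComponentIn _ _ = connectedComponentIn _ ((1 : 𝟙_ _ ⟶ N).left _) ↔
    _ ∈ connectedComponentIn _ _
  rw [one_apply]
  constructor
  · intro h
    rw [← h]
    exact mem_connectedComponentIn (mem_specialFibreSet _)
  · intro h
    exact (connectedComponentIn_eq h).symm

end Groth.Agent.NeronComp
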